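/-
The subgroup generated by the first six generators of the presented Suzuki group is `G₂(4)`.
-/
import Cfsg.Agent.H92.Suz.G24Words
import Cfsg.Agent.H93.SuzOrder

set_option autoImplicit false
set_option maxRecDepth 20000

namespace H92.Suz

open H35.G24 H93 H93.Coset Cfsg Cfsg.Lie

/-- The sparse matrix of one of the six elements. -/
def gS (i : ℕ) : SMat := normS 14 (wordG (genWords.getD i []))

/-- The rows stored in a packed matrix. -/
def rowsOf (z : ℕ) : List ℕ := (List.range 14).map fun i => (z >>> (28 * i)) % 2 ^ 28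

/-- The matrix of a list of packed rows. -/
def decR (R : List ℕ) : Matrix (Fin 14) (Fin 14) K4 :=
  Matrix.of fun i j => K4.ofN (R.getD i.val 0 >>> (2 * j.val))

theorem decR_rowsOf (S : SMat) : decR (rowsOf (acc 14 S)) = toMat 14 S := by
  ext i j
  rw [decR, Matrix.of_apply, toMat_apply, dec, rowsOf,
    List.getD_eq_getElem _ _ (by simp), List.getElem_map, List.getElem_range,
    show 2 * (14 * i.val + j.val) = 28 * i.val + 2 * j.val by ring, Nat.shiftRight_add]
  generalize acc 14 S >>> (28 * i.val) = y
  rw [← ofN_mod, ← ofN_mod (y >>> _)]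
  congr 1
  have hj : 2 * j.val + 2 ≤ 28 := by omega
  refine Nat.eq_of_testBit_eq fun b => ?_
  simp only [show (4 : ℕ) = 2 ^ 2 from rfl, Nat.testBit_mod_two_pow, Nat.testBit_shiftRight]
  rcases lt_or_ge b 2 with hb | hb
  · simp [hb, show 2 * j.val + b < 28 by omega]
  · simp [show ¬ b < 2 by omega]

/-- A packed row times a matrix given by the multiples of its rows. -/
def rowMul : List (List ℕ) → ℕ → ℕ
  | [], _ => 0
  | t :: T, r => t.getD (r % 4) 0 ^^^ rowMul T (r >>> 2)

theorem ofN_rowMul (T : List (List ℕ)) : ∀ r s : ℕ, K4.ofN (rowMul T r >>> s) =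
    ∑ k ∈ Finset.range T.length, K4.ofN ((T.getD k []).getD ((r >>> (2 * k)) % 4) 0 >>> s) := by
  induction T with
  | nil => intro r s; rw [rowMul, Nat.zero_shiftRight]; rfl
  | cons t T ih =>
    intro r s
    rw [rowMul, Nat.shiftRight_xor_distrib, K4.ofN_xor, ih, List.length_cons, Finset.sum_range_succ']
    rw [add_comm]
    refine congrArg₂ (· + ·) (Finset.sum_congr rfl fun k _ => ?_) rfl
    rw [List.getD_cons_succ, ← Nat.shiftRight_add, show 2 + 2 * k = 2 * (k + 1) by ring]

/-- The multiples of the rows of a sparse matrix are correct. -/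
def tableOK (T : List (List ℕ)) (S : SMat) : Bool :=
  T.length == 14 && (let z := acc 14 S
    (List.range 14).all fun k => (List.range 4).all fun c => (List.range 14).all fun j =>
      ((T.getD k []).getD c 0 >>> (2 * j)) % 4 == m4 c ((z >>> (2 * (14 * k + j))) % 4) % 4)

theorem decR_map {T : List (List ℕ)} {S : SMat} (hT : tableOK T S = true) {R : List ℕ}
    (hR : R.length = 14) : decR (R.map (rowMul T)) = decR R * toMat 14 S := by
  rw [tableOK, Bool.and_eq_true, beq_iff_eq] at hT
  simp only [List.all_eq_true, List.mem_range, beq_iff_eq] at hT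
  ext i j
  rw [Matrix.mul_apply, decR, Matrix.of_apply, List.getD_eq_getElem _ _ (by simp [hR]),
    List.getElem_map, ofN_rowMul, hT.1, ← Fin.sum_univ_eq_sum_range]
  refine Finset.sum_congr rfl fun k _ => ?_
  rw [decR, Matrix.of_apply, List.getD_eq_getElem R _ (by omega), toMat_apply, dec,
    ← ofN_mod (R[i.val] >>> _), ← ofN_mod (acc 14 S >>> _), ← K4.ofN_mul, ← ofN_mod,
    hT.2 k.val k.2 _ (Nat.mod_lt _ (by norm_num)) j.val j.2, ofN_mod]

/-- The rows of a word in the six elements, read backwards. -/
def evR : List ℕ → List ℕ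
  | [] => rowsOf (acc 14 (oneS 14))
  | g :: w => (evR w).map (rowMul (tables.getD g []))

theorem evR_length : ∀ w, (evR w).length = 14
  | [] => by simp [evR, rowsOf]
  | g :: w => by simp [evR, evR_length w]

theorem tables_ok : (List.range 6).all (fun g => tableOK (tables.getD g []) (gS g)) = true := by
  decide +kernel

theorem words_sub : genWords.all (fun L => L.all fun c => genData.any fun c' =>
    c'.r == c.r && c'.t == c.t && c'.g == c.g) = true := by decide +kernel

theorem rels_ok : (SuzLF.data.words.take SuzLF.data.nrel).all (fun w =>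
    w.all (fun g => decide (g < 6)) && evR w == rowsOf (acc 14 (oneS 14))) = true := by decide +kernel

theorem root_ok : (genData.zip rootWords).all (fun z =>
    z.2.all (fun g => decide (g < 6)) && evR z.2 == rowsOf (acc 14 z.1.g)) = true ∧
    genData.length ≤ rootWords.length := by decide +kernel

theorem exists_gen (i : Fin 6) : ∃ x : G24, mat (x : GL chevG2.Idx K4) = toMat 14 (gS i) := by
  have hw : ∀ L : List GenCert, (∀ c ∈ L, ∃ g : G24, mat (g : GL chevG2.Idx K4) = toMat 14 c.g) →
      ∃ x : G24, mat (x : GL chevG2.Idx K4) = toMat 14 (wordG L) := by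
    intro L
    induction L with
    | nil => intro _; exact ⟨1, by rw [wordG, toMat_oneS14]; exact mat_one⟩
    | cons c L ih =>
      intro h
      obtain ⟨g, hg⟩ := h c (by simp)
      obtain ⟨x, hx⟩ := ih fun e he => h e (by simp [he])
      exact ⟨g * x, by rw [wordG, toMat_mulS, ← hg, ← hx]; exact mat_mul _ _⟩
  have hlen : i.val < genWords.length := i.2
  obtain ⟨x, hx⟩ := hw (genWords.getD i []) fun c hc => by
    have hmem : genWords.getD i [] ∈ genWords := by
      rw [List.getD_eq_getElem _ _ hlen]
      exact List.getElem_mem hlen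
    have h := List.all_eq_true.1 (List.all_eq_true.1 words_sub _ hmem) c hc
    obtain ⟨c', hc', he⟩ := List.any_eq_true.1 h
    simp only [Bool.and_eq_true, beq_iff_eq] at he
    obtain ⟨g, hg, -⟩ := cert_facts hc'
    exact ⟨g, by rw [hg, he.2]⟩
  exact ⟨x, by rw [gS, toMat_normS, hx]⟩

/-- The six elements. -/
noncomputable def gen6 (i : ℕ) : G24 := if h : i < 6 then (exists_gen ⟨i, h⟩).choose else 1

theorem mat_ev (w : List ℕ) (h : ∀ g ∈ w, g < 6) :
    mat ((ev gen6 w : G24) : GL chevG2.Idx K4) = decR (evR w) := by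
  induction w with
  | nil => rw [evR, decR_rowsOf, toMat_oneS14]; exact mat_one
  | cons g w ih =>
    have hg : g < 6 := h g (by simp)
    have hgen : mat (gen6 g : GL chevG2.Idx K4) = toMat 14 (gS g) := by
      rw [gen6, dif_pos hg]; exact (exists_gen ⟨g, hg⟩).choose_spec
    rw [evR, decR_map (List.all_eq_true.1 tables_ok g (List.mem_range.2 hg)) (evR_length w),
      ← ih fun a ha => h a (by simp [ha]), ← hgen]
    exact mat_mul _ _

theorem gen6_rel {w : List ℕ} (h : w ∈ SuzLF.data.words.take SuzLF.data.nrel) : ev gen6 w = 1 := by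
  have h1 := List.all_eq_true.1 rels_ok w h
  rw [Bool.and_eq_true, List.all_eq_true, beq_iff_eq] at h1
  have h2 := mat_ev w fun g hg => of_decide_eq_true (h1.1 g hg)
  rw [h1.2, decR_rowsOf, toMat_oneS14, ← mat_one] at h2
  exact Subtype.ext (mat_injective h2)

theorem gen6_closure : Subgroup.closure (gen6 '' {g | g < 6}) = ⊤ := by
  rw [eq_top_iff]
  rintro ⟨g, hg⟩ -
  have hcert : ∀ c ∈ genData, ∃ u ∈ Subgroup.closure (gen6 '' {g | g < 6}),
      mat (u : GL chevG2.Idx K4) = toMat 14 c.g := by
    intro c hc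
    obtain ⟨k, hk, rfl⟩ := List.getElem_of_mem hc
    have hk' : k < rootWords.length := lt_of_lt_of_le hk root_ok.2
    have hz : (genData[k], rootWords[k]) ∈ genData.zip rootWords := by
      have hzl : k < (genData.zip rootWords).length := by rw [List.length_zip]; omega
      have := List.getElem_mem hzl
      rwa [List.getElem_zip] at this
    have h1 := List.all_eq_true.1 root_ok.1 _ hz
    rw [Bool.and_eq_true, List.all_eq_true] at h1
    have hlt : ∀ a ∈ rootWords[k], a < 6 := fun a ha => of_decide_eq_true (h1.1 a ha)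
    exact ⟨ev gen6 rootWords[k], H93.Coset.ev_mem _ _ (fun a ha => Subgroup.subset_closure ⟨a, hlt a ha, rfl⟩),
      by rw [mat_ev _ hlt, beq_iff_eq.1 h1.2, decR_rowsOf]; rfl⟩
  have hmap : g ∈ (Subgroup.closure (gen6 '' {g | g < 6})).map (chevG2.group K4).subtype := by
    refine (Subgroup.closure_le _).2 ?_ hg
    intro x hx
    obtain ⟨r, t, hxr⟩ := hx
    rcases cover_ok r t with ht | hc
    · have : x = 1 := by
        refine mat_injective ?_
        rw [mat_one]
        ext i j
        rw [mat, Matrix.submatrix_apply, hxr, ht, Matrix.one_apply]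
        exact xMat_zero r i j
      rw [this]; exact one_mem _
    · rw [List.any_eq_true] at hc
      obtain ⟨c, hc, he⟩ := hc
      simp only [Bool.and_eq_true, beq_iff_eq] at he
      obtain ⟨u, hu, hmat⟩ := hcert c hc
      refine ⟨u, hu, ?_⟩
      have hrr : Fin.ofNat 12 c.r = r := Fin.ext (by
        show c.r % 12 = r.val; rw [he.1]; exact Nat.mod_eq_of_lt r.2)
      have htt : K4.ofN c.t = t := K4.equivFin.injective (Fin.ext (by
        show c.t % 4 = t.v.val; rw [he.2]; exact Nat.mod_eq_of_lt t.v.2))
      refine mat_injective ?_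
      show mat (u : GL chevG2.Idx K4) = _
      rw [hmat]
      ext i j
      rw [mat, Matrix.submatrix_apply, hxr, toMat_apply, ← hrr, ← htt]
      exact (of_decide_eq_true (List.all_eq_true.1 xmatch_ok c hc) i j).symm
  obtain ⟨u, hu, he⟩ := hmap
  have : u = ⟨g, hg⟩ := Subtype.ext he
  exact this ▸ hu

/-- Pairs of corresponding generators. -/
noncomputable def pairGen (i : ℕ) : Cfsg.Spor.Suz × G24 := (SuzOrder.gen i, gen6 i)

theorem pair_ev (w : List ℕ) : ev pairGen w = (ev SuzOrder.gen w, ev gen6 w) := by
  induction w with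
  | nil => rfl
  | cons g w ih => simp only [ev, ih, pairGen, Prod.mk_mul_mk]

/-- The diagonal subgroup generated by the first `k` pairs. -/
noncomputable abbrev P (k : ℕ) : Subgroup (Cfsg.Spor.Suz × G24) :=
  Subgroup.closure (pairGen '' {g | g < k})

theorem pair_step (D : Data) (ht : Tables D) (hng : D.ng ≤ 6)
    (hr : ∀ w ∈ D.words.take D.nrel,
      w ∈ SuzLG.data.words.take SuzLG.data.nrel ∧ w ∈ SuzLF.data.words.take SuzLF.data.nrel)
    {k N : ℕ} (hs : D.words.drop D.nrel = (List.range k).map fun g => [g])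
    (hfin : Finite (P k) ∧ Nat.card (P k) ≤ N) :
    Finite (P D.ng) ∧ Nat.card (P D.ng) ≤ D.n * N := by
  haveI := hfin.1
  have hinv6 : ∀ g < 6, gen6 g * gen6 g = 1 := by
    intro g hg
    have h := gen6_rel (w := [g, g]) (by interval_cases g <;> decide +kernel)
    simpa [ev] using h
  obtain ⟨h1, h2⟩ := card_le_of_table (gen := pairGen) ht
    (fun g hg => Prod.ext (SuzLG.fit.model.inv g (lt_of_lt_of_le (hg.trans_le hng) (by decide)))
      (hinv6 g (hg.trans_le hng)))
    (fun w hw => by rw [pair_ev, SuzOrder.gen_rel (hr w hw).1, gen6_rel (hr w hw).2]; rfl)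
    (L := P k) (by
      intro w hw
      rw [hs, List.mem_map] at hw
      obtain ⟨g, hg, rfl⟩ := hw
      have : ev pairGen [g] = pairGen g := by simp [ev]
      rw [this]
      exact Subgroup.subset_closure ⟨g, List.mem_range.mp hg, rfl⟩)
  exact ⟨h1, h2.trans (Nat.mul_le_mul le_rfl hfin.2)⟩

theorem pair_card : Finite (P 6) ∧ Nat.card (P 6) ≤ 251596800 := by
  have h0 : Finite (P 0) ∧ Nat.card (P 0) ≤ 1 := by
    have hb : P 0 = ⊥ := by simp [P]
    rw [hb]
    exact ⟨inferInstance, le_of_eq Subgroup.card_bot⟩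
  have h4 := pair_step SuzLD.data SuzLD.tables (by decide) (by decide +kernel) (k := 0) (by decide +kernel) h0
  have h5 := pair_step SuzLE.data SuzLE.tables (by decide) (by decide +kernel) (k := 4) (by decide +kernel) h4
  exact pair_step SuzLF.data SuzLF.tables (by decide) (by decide +kernel) (k := 5) (by decide +kernel) h5

theorem card_K6 : 251596800 ≤ Nat.card (SuzOrder.K 6) := by
  haveI := SuzOrder.card_le.1
  have h := SuzOrder.step SuzLG.data SuzLG.tables (by decide) (by decide +kernel) (k := 6)
    (by decide +kernel) (N := Nat.card (SuzOrder.K 6)) ⟨inferInstance, le_rfl⟩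
  have htop : SuzOrder.K 7 = ⊤ := SuzLG.fit.model.generates
  have h7 : Nat.card (SuzOrder.K 7) ≤ 1782 * Nat.card (SuzOrder.K 6) := h.2
  rw [htop, Subgroup.card_top, SuzOrder.isSuz.2] at h7
  omega

theorem map_fst : (P 6).map (MonoidHom.fst Cfsg.Spor.Suz G24) = SuzOrder.K 6 := by
  rw [MonoidHom.map_closure, Set.image_image]
  rfl

theorem map_snd : (P 6).map (MonoidHom.snd Cfsg.Spor.Suz G24) = ⊤ := by
  rw [MonoidHom.map_closure, Set.image_image]
  exact gen6_closure

/-- The subgroup generated by the first six generators is `G₂(4)`. -/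
theorem nonempty_equiv : Nonempty (SuzOrder.K 6 ≃* G24) := by
  haveI := pair_card.1
  haveI := SuzOrder.card_le.1
  haveI : Finite G24 := Nat.finite_of_card_ne_zero (by rw [card_G24]; norm_num)
  have hf : Function.Bijective ((MonoidHom.fst Cfsg.Spor.Suz G24).subgroupMap (P 6)) := by
    refine (Nat.bijective_iff_surjective_and_card _).2
      ⟨MonoidHom.subgroupMap_surjective _ _, le_antisymm ?_ (Nat.card_le_card_of_surjective _ (MonoidHom.subgroupMap_surjective _ _))⟩
    rw [map_fst]
    exact pair_card.2.trans card_K6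
  have hs : Function.Bijective ((MonoidHom.snd Cfsg.Spor.Suz G24).subgroupMap (P 6)) := by
    refine (Nat.bijective_iff_surjective_and_card _).2
      ⟨MonoidHom.subgroupMap_surjective _ _, le_antisymm ?_ (Nat.card_le_card_of_surjective _ (MonoidHom.subgroupMap_surjective _ _))⟩
    rw [map_snd, Subgroup.card_top, card_G24]
    exact pair_card.2.trans (by norm_num)
  exact ⟨(MulEquiv.subgroupCongr map_fst).symm.trans ((MulEquiv.ofBijective _ hf).symm.trans
    ((MulEquiv.ofBijective _ hs).trans ((MulEquiv.subgroupCongr map_snd).trans Subgroup.topEquiv)))⟩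

end H92.Suz
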